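import Cfsg.Agent.Spor.J4S.V.D0

set_option autoImplicit false
set_option maxRecDepth 100000000
set_option Elab.async false

namespace Cfsg.Agent.Spor.J4S.V

theorem gr2 : sub (ones 1771) (U.growI W1 [0, 1, 1, 0, 1, 1, 0, 1, 1, 0, 1, 1, 0, 1, 1, 0, 1, 1, 0, 1, 1, 0, 1, 1, 0, 1, 1, 0, 1, 1, 0, 1, 1, 0, 1, 1, 0, 1, 1] (Nat.shiftLeft 1 0)) = true := by decide +kernel

theorem cl4 : band (U.closedW W1 (ones 1771)) (sub (Nat.shiftLeft 1 0) (ones 1771)) = true := by decide +kernel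

theorem sz5 : sizeOk 11 (ones 1771) 1771 = true := by decide +kernel

theorem fx8 : U.closedW W7 (Nat.shiftLeft 1 0) = true := by decide +kernel

theorem okL : J4F.D.okL 394 [70, 72] [[2, 0, 2, 0, 2, 0, 3, 0, 3, 0, 2, 0, 2, 0, 2, 0, 3, 0, 2, 0, 3, 0, 3, 0, 2, 0, 3, 0, 2, 0, 2, 0, 3, 0, 3, 0, 3, 0, 3, 1, 3, 1, 3, 1, 2, 1, 2, 1, 2, 1, 3, 1, 2, 1], [0, 2, 0, 2, 0, 3, 0, 2, 0, 2, 0, 2, 0, 2, 0, 2, 0, 3, 0, 2, 0, 3, 0, 2, 0, 2, 0, 2, 0, 2, 0, 2, 0, 2, 0, 3, 0, 3, 0, 3, 1, 3, 1, 3, 1, 2, 1, 2, 1, 2, 1, 3, 1, 2, 1, 3, 1, 3, 1, 2]] = true := by decide +kernel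

theorem okS0 : J4F.D.okS 394 0 [7, 6] [[0], [2]] = true := by decide +kernel

theorem okS1 : J4F.D.okS 394 1 [70, 72] [[0, 3, 0, 2, 0, 3, 0, 3, 0, 3, 0, 2, 0, 2, 0, 2, 0, 2, 0, 2, 0, 2, 0, 3, 0, 3, 0, 2, 0, 3, 0, 2, 0, 2, 0, 3, 0, 2, 0, 3, 1, 3, 1, 3, 1, 2, 1, 2, 1, 3, 1, 3, 1, 3], [3, 0, 2, 0, 2, 0, 3, 0, 2, 0, 3, 0, 3, 0, 3, 0, 2, 0, 2, 0, 2, 0, 2, 0, 2, 0, 3, 0, 3, 0, 3, 0, 3, 0, 3, 0, 3, 0, 2, 1, 3, 1, 2, 1, 3, 1, 3, 1, 3, 1, 3, 1, 3, 1, 2, 1, 3, 1, 3, 1]] = true := by decide +kernel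

theorem ed10a : lall (J4F.D.okEd 394 1 J) ed10 = true := by decide +kernel

theorem ed10b : band (lall (fun e => lall (fun y => Nat.blt y (2 * 2)) e.w) ed10) (sub M11 (edMask (U.pls 11 (2 * 2) 0) ed10)) = true := by decide +kernel

theorem gr12 : sub (ones 1771) (U.growI W9 [0, 1, 1, 0, 0, 1, 1, 0, 0, 1, 1, 0, 0, 1, 1, 0, 0, 1, 1, 0] M11) = true := by decide +kernel

theorem loop1 : J4F.D.loop 394 1 362 = true := by decide +kernel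

theorem okS3 : J4F.D.okS 394 3 [384, 391] [[3, 0, 2, 0, 2, 0, 3, 0, 3, 0, 3, 0, 2, 0, 2, 0, 2, 0, 2, 0, 3, 0, 3, 0, 3, 0, 2, 0, 2, 0, 3, 0, 2, 0, 2, 0, 3, 0, 3, 1, 2, 1, 3, 1, 2, 1, 2, 1, 3, 1, 3, 1, 3, 1], [0, 2, 0, 2, 0, 2, 0, 2, 0, 2, 0, 3, 0, 3, 0, 2, 0, 2, 0, 3, 0, 3, 0, 3, 0, 3, 0, 2, 0, 2, 0, 2, 0, 3, 0, 2, 0, 3, 0, 3, 1, 3, 1, 3, 1, 2, 1, 3, 1, 3, 1, 3]] = true := by decide +kernel

theorem ed14a : lall (J4F.D.okEd 394 3 J) ed14 = true := by decide +kernel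

theorem ed14b : band (lall (fun e => lall (fun y => Nat.blt y (2 * 2)) e.w) ed14) (sub M15 (edMask (U.pls 11 (2 * 2) 0) ed14)) = true := by decide +kernel

theorem gr16 : sub (ones 1771) (U.growI W13 [0, 1, 1, 0, 0, 1, 1, 0, 0, 1, 1, 0, 0, 1, 1, 0, 0, 1, 1, 0] M15) = true := by decide +kernel

theorem loop3 : J4F.D.loop 394 3 392 = true := by decide +kernel

theorem rinv : band (Nat.blt 4 394) ((J4F.D.fc 4).onR fun r => onCons r fun _ r' => onCons r' fun _ => isNil) = true := by decide +kernel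

end Cfsg.Agent.Spor.J4S.V
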