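import Cfsg.Agent.Spor.Prim
import Cfsg.Agent.Spor.J4S.Main
import Cfsg.Agent.Spor.J4S.V.C0
import Cfsg.Agent.Spor.J4P.VB.Main
import Cfsg.Agent.Spor.J4F.Main

set_option autoImplicit false
set_option maxRecDepth 100000000
set_option Elab.async false

namespace Cfsg.Agent.Spor.J4S.V

theorem hU : U.Ok 11 := U.ok_of 11 (show AllP (fun n => Net.okb 11 n = true) [n0, n1] from AllP.cons ok0 (AllP.cons ok1 (AllP.nil)))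

theorem hfP : ∀ j < 2, U.fP [1, 3] j = fP j := by
  intro j hj
  interval_cases j <;> rfl
theorem eG : gsub 2 fP = U.lsub W1 := (gsub_congr hfP).symm.trans (lsub_eq_gsub U [1, 3])
theorem hom : ∃ φ : J4P.P →* Equiv.Perm ℕ, ∀ j < 2, φ (J4P.p j) = fP j :=
  J4P.bound.exists_hom (by norm_num) J4P.pres pres J4P.lbP
noncomputable def φ : J4P.P →* Equiv.Perm ℕ := hom.choose
theorem hφ : ∀ j < 2, φ (J4P.p j) = fP j := hom.choose_spec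
theorem link : U.Link φ (atm 2 J4P.p) (2 * 2) :=
  Tab.Link.of (fun j hj => (hφ j hj).trans (by interval_cases j <;> rfl)) (by decide +kernel)
def LW : List (List Nat) := [[2, 0, 2, 0, 2, 0, 3, 0, 3, 0, 2, 0, 2, 0, 2, 0, 3, 0, 2, 0, 3, 0, 3, 0, 2, 0, 3, 0, 2, 0, 2, 0, 3, 0, 3, 0, 3, 0, 3, 1, 3, 1, 3, 1, 2, 1, 2, 1, 2, 1, 3, 1, 2, 1], [0, 2, 0, 2, 0, 3, 0, 2, 0, 2, 0, 2, 0, 2, 0, 2, 0, 3, 0, 2, 0, 3, 0, 2, 0, 2, 0, 2, 0, 2, 0, 2, 0, 2, 0, 3, 0, 3, 0, 3, 1, 3, 1, 3, 1, 2, 1, 2, 1, 2, 1, 3, 1, 2, 1, 3, 1, 3, 1, 2]]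
theorem reach3 : Reach (U.lsub W1) 0 (ones 1771) := (Reach.grow hU (Reach.base _ 0) gr2)
theorem orb6 : (orbS (U.lsub W1) 0).ncard = 1771 := reach3.ncard hU cl4 sz5
theorem orb6e : orbS (U.lsub W1) 0 = {c | Nat.testBit (ones 1771) c = true} := reach3.orb hU cl4
theorem act : CosetAct (wsub 2 J4P.p LW) φ 1771 :=
  CosetAct.of_count (link.fix hU (W := W7) (by decide +kernel) (hU.fixes fx8))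
    (by rw [range_eq_gsub hφ (gsub_lift 2 _), eG]; exact orb6e) J4P.VB.cardL J4P.cardP
section
variable {R : Type} [CommRing R] {G : Type} [Group G] {Y : DCtx J4F.D R J4P.P G}
  (hu : Y.Upto 394) (hg : Y.X.Gens J4F.TT (atm 2 J4P.p))
include hu hg

theorem env : Y.Env 394 2 J4P.p φ 1771 U 11 :=
  ⟨hu, J4F.one, hg, ⟨_, act, hu.okL J4F.one hg okL⟩, hU, link⟩
theorem cos0 : Y.CosOk 2 J4P.p J (0, [[0], [2]], 244823040) :=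
  DCtx.cos_zero hu J4F.one hg (gsub_lift 2 _) J4P.cardP okS0 (by decide +kernel)
theorem hW1 : U.lsub W9 ≤ (Y.stabS (Y.sym 1)).map φ := (env hu hg).hW okS1 (by decide +kernel)
theorem cos1 : Y.CosOk 2 J4P.p J (1, [[0, 3, 0, 2, 0, 3, 0, 3, 0, 3, 0, 2, 0, 2, 0, 2, 0, 2, 0, 2, 0, 2, 0, 3, 0, 3, 0, 2, 0, 3, 0, 2, 0, 2, 0, 3, 0, 2, 0, 3, 1, 3, 1, 3, 1, 2, 1, 2, 1, 3, 1, 3, 1, 3], [3, 0, 2, 0, 2, 0, 3, 0, 2, 0, 3, 0, 3, 0, 3, 0, 2, 0, 2, 0, 2, 0, 2, 0, 2, 0, 3, 0, 3, 0, 3, 0, 3, 0, 3, 0, 3, 0, 2, 1, 3, 1, 2, 1, 3, 1, 3, 1, 3, 1, 3, 1, 3, 1, 2, 1, 3, 1, 3, 1]], 138240) :=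
  (env hu hg).cos okS1 J4P.VB.cardS1 (((env hu hg).edges ed10a ed10b).grow hU (hW1 hu hg) gr12)
theorem hW3 : U.lsub W13 ≤ (Y.stabS (Y.sym 3)).map φ := (env hu hg).hW okS3 (by decide +kernel)
theorem cos3 : Y.CosOk 2 J4P.p J (3, [[3, 0, 2, 0, 2, 0, 3, 0, 3, 0, 3, 0, 2, 0, 2, 0, 2, 0, 2, 0, 3, 0, 3, 0, 3, 0, 2, 0, 2, 0, 3, 0, 2, 0, 2, 0, 3, 0, 3, 1, 2, 1, 3, 1, 2, 1, 2, 1, 3, 1, 3, 1, 3, 1], [0, 2, 0, 2, 0, 2, 0, 2, 0, 2, 0, 3, 0, 3, 0, 2, 0, 2, 0, 3, 0, 3, 0, 3, 0, 3, 0, 2, 0, 2, 0, 2, 0, 3, 0, 2, 0, 3, 0, 3, 1, 3, 1, 3, 1, 2, 1, 3, 1, 3, 1, 3]], 887040) :=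
  (env hu hg).cos okS3 J4P.VB.cardS3 (((env hu hg).edges ed14a ed14b).grow hU (hW3 hu hg) gr16)
theorem done : Y.Done 2 J4P.p CL 244823040 2048 :=
  ⟨J4P.cardP, by norm_num, show AllP (Y.CosOk 2 J4P.p J) [(0, [[0], [2]], 244823040), (1, [[0, 3, 0, 2, 0, 3, 0, 3, 0, 3, 0, 2, 0, 2, 0, 2, 0, 2, 0, 2, 0, 2, 0, 3, 0, 3, 0, 2, 0, 3, 0, 2, 0, 2, 0, 3, 0, 2, 0, 3, 1, 3, 1, 3, 1, 2, 1, 2, 1, 3, 1, 3, 1, 3], [3, 0, 2, 0, 2, 0, 3, 0, 2, 0, 3, 0, 3, 0, 3, 0, 2, 0, 2, 0, 2, 0, 2, 0, 2, 0, 3, 0, 3, 0, 3, 0, 3, 0, 3, 0, 3, 0, 2, 1, 3, 1, 2, 1, 3, 1, 3, 1, 3, 1, 3, 1, 3, 1, 2, 1, 3, 1, 3, 1]], 138240), (3, [[3, 0, 2, 0, 2, 0, 3, 0, 3, 0, 3, 0, 2, 0, 2, 0, 2, 0, 2, 0, 3, 0, 3, 0, 3, 0, 2, 0, 2, 0, 3, 0, 2, 0, 2, 0, 3, 0, 3, 1, 2, 1, 3, 1, 2, 1, 2, 1, 3, 1, 3,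 1, 3, 1], [0, 2, 0, 2, 0, 2, 0, 2, 0, 2, 0, 3, 0, 3, 0, 2, 0, 2, 0, 3, 0, 3, 0, 3, 0, 3, 0, 2, 0, 2, 0, 2, 0, 3, 0, 2, 0, 3, 0, 3, 1, 3, 1, 3, 1, 2, 1, 3, 1, 3, 1, 3]], 887040)] from AllP.cons (cos0 hu hg) (AllP.cons (cos1 hu hg) (AllP.cons (cos3 hu hg) (AllP.nil))), hu.rinv rinv, by decide +kernel⟩
omit hg in
theorem loops : AllP Y.Loop CL :=
  show AllP Y.Loop [(0, [[0], [2]], 244823040), (1, [[0, 3, 0, 2, 0, 3, 0, 3, 0, 3, 0, 2, 0, 2, 0, 2, 0, 2, 0, 2, 0, 2, 0, 3, 0, 3, 0, 2, 0, 3, 0, 2, 0, 2, 0, 3, 0, 2, 0, 3, 1, 3, 1, 3, 1, 2, 1, 2, 1, 3, 1, 3, 1, 3], [3, 0, 2, 0, 2, 0, 3, 0, 2, 0, 3, 0, 3, 0, 3, 0, 2, 0, 2, 0, 2, 0, 2, 0, 2, 0, 3, 0, 3, 0, 3, 0, 3, 0, 3, 0, 3, 0, 2, 1, 3, 1, 2, 1, 3, 1, 3, 1, 3, 1, 3, 1, 3, 1, 2, 1, 3, 1, 3, 1]], 138240),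 (3, [[3, 0, 2, 0, 2, 0, 3, 0, 3, 0, 3, 0, 2, 0, 2, 0, 2, 0, 2, 0, 3, 0, 3, 0, 3, 0, 2, 0, 2, 0, 3, 0, 2, 0, 2, 0, 3, 0, 3, 1, 2, 1, 3, 1, 2, 1, 2, 1, 3, 1, 3, 1, 3, 1], [0, 2, 0, 2, 0, 2, 0, 2, 0, 2, 0, 3, 0, 3, 0, 2, 0, 2, 0, 3, 0, 3, 0, 3, 0, 3, 0, 2, 0, 2, 0, 2, 0, 3, 0, 2, 0, 3, 0, 3, 1, 3, 1, 3, 1, 2, 1, 3, 1, 3, 1, 3]], 887040)] from AllP.cons (Or.inl rfl) (AllP.cons (Or.inr (hu.loop loop1)) (AllP.cons (Or.inr (hu.loop loop3)) (AllP.nil)))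
end

end Cfsg.Agent.Spor.J4S.V
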