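import Cfsg.Agent.Spor.Chk2
import Cfsg.Agent.Spor.J4S.D0
import Cfsg.Agent.Spor.J4F.D0

set_option autoImplicit false
set_option maxRecDepth 100000000
set_option Elab.async false
noncomputable section

namespace Cfsg.Agent.Spor.J4S.V

def J : List Nat := [0, 1, 3]

def W1 : List (List Nat) := [[1], [3]]

def W7 : List (List Nat) := [[2, 3, 2, 4, 2, 3, 2, 3, 2, 3, 2, 4, 2, 4, 2, 4, 1, 4, 1, 4, 1, 4, 1, 3, 1, 3, 1, 4, 1, 3, 1, 4, 1, 4, 1, 3, 1, 4, 1, 3, 1, 3, 1, 3, 1, 4, 1, 4, 1, 3, 1, 3, 1, 3], [3, 2, 4, 2, 4, 2, 3, 2, 4, 2, 3, 2, 3, 2, 3, 2, 4, 2, 4, 2, 4, 1, 4, 1, 4, 1, 3, 1, 3, 1, 3, 1, 3, 1, 3, 1, 3, 1, 4, 1, 3, 1, 4, 1, 3, 1, 3, 1, 3, 1, 3, 1, 3, 1, 4, 1, 3, 1, 3, 1]]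

def W9 : List (List Nat) := [[4, 2, 4, 2, 4, 2, 3, 2, 3, 2, 4, 2, 4, 2, 4, 1, 3, 1, 4, 1, 3, 1, 3, 1, 4, 1, 3, 1, 4, 1, 4, 1, 3, 1, 3, 1, 3, 1, 3, 1, 3, 1, 3, 1, 4, 1, 4, 1, 4, 1, 3, 1, 4, 1], [2, 4, 2, 4, 2, 3, 2, 4, 2, 4, 2, 4, 2, 4, 2, 4, 2, 3, 2, 4, 2, 3, 1, 4, 1, 4, 1, 4, 1, 4, 1, 4, 1, 4, 1, 3, 1, 3, 1, 3, 1, 3, 1, 3, 1, 4, 1, 4, 1, 4, 1, 3, 1, 4, 1, 3, 1, 3, 1, 4]]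

def ed10 : List Ed := [⟨74, [], []⟩, ⟨362, [0], [177, 393, 218]⟩, ⟨250, [0, 3, 0, 3, 0], [1, 198, 186, 340, 235, 224]⟩, ⟨363, [0, 2, 0, 2, 0, 3, 0, 3, 0], [184, 226, 235, 224]⟩]

def M11 : Nat := nat_lit 0x8000000000083

def W13 : List (List Nat) := [[2, 4, 2, 4, 2, 4, 2, 3, 2, 3, 2, 4, 2, 3, 2, 4, 1, 4, 1, 3, 1, 3, 1, 4, 1, 3, 1, 3, 1, 4, 1, 4, 1, 4, 1, 3, 1, 3, 1, 3, 1, 3, 1, 4, 1, 4, 1, 4, 1, 3, 1, 3, 1, 4], [4, 2, 4, 2, 4, 2, 3, 2, 4, 2, 4, 2, 4, 1, 4, 1, 3, 1, 4, 1, 3, 1, 3, 1, 3, 1, 4, 1, 4, 1, 4, 1, 4, 1, 3, 1, 3, 1, 4, 1, 4, 1, 3, 1, 3, 1, 3, 1, 3, 1, 3, 1]]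

def ed14 : List Ed := [⟨251, [], []⟩, ⟨392, [3, 0, 3, 0, 2, 0, 2, 0, 2, 0, 2, 0, 2, 0, 2, 0, 2, 0, 2, 0, 2, 0], [206, 198, 228, 214, 236, 224]⟩]

def M15 : Nat := nat_lit 0x1000000000000000000000000000000000000000000000000000000000000000000000000000000000000000000000000000000000000000000000000000000000000000000000000000000000000000000000000000000000000000000000000000000000000000000000000000000000000000000000000000000000000000000000000000000000000000000000000000000000000000000000000000000000000000000000000000000001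

def CL : List (Nat × List (List Nat) × Nat) := [(0, [[0], [2]], 244823040), (1, [[0, 3, 0, 2, 0, 3, 0, 3, 0, 3, 0, 2, 0, 2, 0, 2, 0, 2, 0, 2, 0, 2, 0, 3, 0, 3, 0, 2, 0, 3, 0, 2, 0, 2, 0, 3, 0, 2, 0, 3, 1, 3, 1, 3, 1, 2, 1, 2, 1, 3, 1, 3, 1, 3], [3, 0, 2, 0, 2, 0, 3, 0, 2, 0, 3, 0, 3, 0, 3, 0, 2, 0, 2, 0, 2, 0, 2, 0, 2, 0, 3, 0, 3, 0, 3, 0, 3, 0, 3, 0, 3, 0, 2, 1, 3, 1, 2, 1, 3, 1, 3, 1, 3, 1, 3, 1, 3, 1, 2, 1, 3, 1, 3, 1]], 138240), (3, [[3, 0, 2, 0, 2, 0, 3, 0, 3, 0, 3, 0, 2, 0, 2, 0, 2, 0, 2, 0, 3, 0, 3, 0, 3, 0, 2, 0, 2, 0, 3, 0, 2, 0, 2, 0, 3, 0, 3, 1, 2, 1, 3, 1, 2, 1, 2, 1, 3, 1, 3, 1, 3, 1], [0, 2, 0, 2, 0, 2, 0, 2, 0, 2, 0, 3, 0, 3, 0, 2, 0, 2, 0, 3, 0, 3, 0, 3, 0, 3, 0, 2, 0, 2, 0, 2, 0, 3, 0, 2, 0, 3, 0, 3, 1, 3, 1, 3, 1, 2,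 1, 3, 1, 3, 1, 3]], 887040)]

def U : Tab := ⟨[n0, n1], [⟨0, false, 0, 0, []⟩, ⟨0, false, 0, 0, []⟩, ⟨0, true, 0, 0, []⟩, ⟨1, false, 0, 0, []⟩, ⟨1, true, 0, 0, []⟩]⟩

end Cfsg.Agent.Spor.J4S.V
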